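import Groth.Agent.Surf15.RRCor
import Groth.Agent.EulerLib.FieldExt
import Groth.Agent.VarietyLib.PullClass
import Groth.Agent.CAlgH3.FittSmooth
import Groth.Agent.S15539
import Groth.Agent.DimLib.BaseChange
import Groth.Agent.Canon15.TopDiff
import Groth.Agent.OmegaAmple24.Euler
import Groth.Agent.S15540

/-!
# Riemann–Roch on smooth proper surfaces over any field
-/

set_option autoImplicit false
set_option linter.style.haveILetI false
set_option linter.unusedSectionVars false
set_option backward.isDefEq.respectTransparency.types false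

universe u

open CategoryTheory CategoryTheory.Limits AlgebraicGeometry Opposite TopologicalSpace
open Groth.Agent.Coherent Groth.Agent.PicLib Groth.Agent.AmpleLib Groth.Agent.EulerLib
open Groth.Agent.CurveRR24 Groth.Agent.Surf15

namespace Groth.Agent.RRField14

set_option maxHeartbeats 1000000

variable {X : Scheme.{u}} (k : Type u) [Field k] [X.Over (Spec (CommRingCat.of k))]
  [IsProper (X ↘ Spec (CommRingCat.of k))]

theorem chiCl_bc (K : Type u) [Field K] [Algebra k K] (x : InvCl X) :
    letI : (Curv2.bc k X K).Over (Spec (CommRingCat.of K)) := ⟨Curv2.bcSnd k X K⟩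
    chiCl K (Coh.structureModule (Curv2.bc k X K)) (VarietyLib.pullHom (Curv2.bcFst k X K) x) =
      chiCl k (Coh.structureModule X) x := by
  letI : (Curv2.bc k X K).Over (Spec (CommRingCat.of K)) := ⟨Curv2.bcSnd k X K⟩
  haveI := isNoetherian_of_proper (X := X) k
  obtain ⟨L, hL, rfl⟩ := InvCl.exists_rep x
  rw [VarietyLib.pullHom_mk, chiCl_mk, chiCl_mk]
  have hc := CurveRR24.isCoh_of_isInvertible k hL
  rw [euler_congr k X (unitTensorIso L), euler_congr K _ (unitTensorIso _)]
  exact euler_bc k K L hc.1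

variable [Smooth (X ↘ Spec (CommRingCat.of k))]

theorem smoothRD (hloc : ∀ x : X, FlatMor.localDim X x = ((2 : ℕ) : WithBot ℕ∞)) :
    SmoothOfRelativeDimension 2 (X ↘ Spec (CommRingCat.of k)) := by
  let q := X ↘ Spec (CommRingCat.of k)
  choose U m hxU hm using Unram17Lib.exists_smoothOfRelativeDimension q
  have hmn : ∀ x, m x = 2 := fun x => by
    haveI := hm x
    have h2 := Unram17Lib.fibreDimAt_eq_of_openImmersion (U x).ι (𝟙 _) (h := q) (h' := (U x).ι ≫ q)
      (Category.comp_id _).symm (⟨x, hxU x⟩ : (U x).toScheme)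
    rw [Unram17Lib.fibreDimAt_of_smoothOfRelativeDimension ((U x).ι ≫ q) (m x)] at h2
    have h1 : FlatMor.fibreDimAt q x = (m x : WithBot ℕ∞) := h2
    rw [GenSmoothLib.fibreDimAt_toField q, hloc] at h1
    exact_mod_cast h1.symm
  refine IsZariskiLocalAtSource.of_iSup_eq_top (P := @SmoothOfRelativeDimension 2) U
    (Opens.ext (Set.eq_univ_of_forall fun x => by simpa using ⟨x, hxU x⟩)) fun x => ?_
  exact hmn x ▸ hm x

theorem smoothRD_of_components (hdim : ∀ Z ∈ irreducibleComponents (X : Type u), topologicalKrullDim Z = 2) :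
    SmoothOfRelativeDimension 2 (X ↘ Spec (CommRingCat.of k)) :=
  smoothRD k fun x => CAlgH3.FittSmooth.localDim_eq_of_components (X ↘ Spec (CommRingCat.of k)) 2
    (fun T hT => hdim T hT) x

variable [SmoothOfRelativeDimension 2 (X ↘ Spec (CommRingCat.of k))]

theorem isInvertible_of_isExtPow {W : X.Modules}
    (hW : ExtPow.IsExtPow 2 (Omega.sheaf (X ↘ Spec (CommRingCat.of k))) W) : PicF.IsInvertible W := by
  haveI := isSeparated_of_proper (X := X) k
  exact Canon15.isInvertible_of_isExtPow (Canon15.isFinLocFreeOfRank_omega _ 2) hW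

include k in
theorem dim_le : topologicalKrullDim X ≤ ((2 : ℕ) : WithBot ℕ∞) := by
  rcases isEmpty_or_nonempty X with h | h
  · haveI : IsEmpty (IrreducibleCloseds X) := ⟨fun Z => IsEmpty.false Z.2.nonempty.some⟩
    rw [topologicalKrullDim, Order.krullDim_eq_bot]
    exact bot_le
  · exact (GenSmoothLib.topologicalKrullDim_eq_of_localDim (X ↘ Spec (CommRingCat.of k)) _
      fun z => Unram17Lib.localDim_of_smoothOfRelativeDimension k (X ↘ Spec (CommRingCat.of k)) 2 z).le

theorem chiCl_mk_euler {L : X.Modules} (hL : PicF.IsInvertible L) :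
    chiCl k (Coh.structureModule X) (InvCl.mk L hL) = Curv2.euler k X L := by
  rw [chiCl_mk]
  exact euler_congr k X (unitTensorIso L)

omit [Smooth (X ↘ Spec (CommRingCat.of k))] [SmoothOfRelativeDimension 2 (X ↘ Spec (CommRingCat.of k))] in
/-- Riemann–Roch over an algebraically closed field, connected or not. -/
theorem riemannRoch_cl_algClosed [IsAlgClosed k] : ∀ (n : ℕ) (X : Scheme.{u}) [X.Over (Spec (CommRingCat.of k))]
    [IsProper (X ↘ Spec (CommRingCat.of k))] [SmoothOfRelativeDimension 2 (X ↘ Spec (CommRingCat.of k))],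
    Nat.card (OmegaAmple24.MaxPts X) = n →
    ∀ (W : X.Modules), ExtPow.IsExtPow 2 (Omega.sheaf (X ↘ Spec (CommRingCat.of k))) W →
    ∀ (hWi : PicF.IsInvertible W) (a : InvCl X), 2 * chiCl k (Coh.structureModule X) a =
      B k a a - B k a (InvCl.mk W hWi) + 2 * chiCl k (Coh.structureModule X) 1 := by
  intro n
  induction n using Nat.strong_induction_on with
  | _ n ih =>
    intro X _ _ _ hn W hW hWi a
    let f := X ↘ Spec (CommRingCat.of k)
    haveI : Smooth (X ↘ Spec (CommRingCat.of k)) := SmoothOfRelativeDimension.smooth 2 _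
    haveI := isNoetherian_of_proper k (X := X)
    rcases isEmpty_or_nonempty X with hE | hne
    · have hz : ∀ x : InvCl X, chiCl k (Coh.structureModule X) x = 0 := fun x => by
        obtain ⟨L, hL, rfl⟩ := InvCl.exists_rep x
        rw [chiCl_mk]
        exact euler_of_isZero k X (EtDeg8.isZero_of_isEmpty _)
      simp only [B, hz]
      ring
    by_cases hconn : ConnectedSpace X
    · haveI := AbVarLib.isIntegral_of_smooth_connected f
      have hX : topologicalKrullDim X = ((2 : ℕ) : WithBot ℕ∞) :=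
        GenSmoothLib.topologicalKrullDim_eq_of_localDim f _
          fun z => Unram17Lib.localDim_of_smoothOfRelativeDimension k f 2 z
      exact Surf15.riemannRoch_cl k hX hW hWi a
    obtain ⟨A, hA, hA0, hA1⟩ : ∃ A : Set X, IsClopen A ∧ A ≠ ∅ ∧ A ≠ Set.univ := by
      by_contra! h
      refine hconn (connectedSpace_iff_clopen.2 ⟨hne, fun A hA => ?_⟩)
      by_cases h0 : A = ∅
      · exact Or.inl h0
      · exact Or.inr (h A hA (Set.nonempty_iff_ne_empty.2 h0))
    let U : X.Opens := ⟨A, hA.2⟩
    let V : X.Opens := ⟨Aᶜ, hA.1.isOpen_compl⟩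
    have hVc : IsClosed (V : Set X) := hA.2.isClosed_compl
    have hUV : U ⊓ V = ⊥ := Opens.ext (Set.inter_compl_self _)
    have hcov : U ⊔ V = ⊤ := Opens.ext (Set.union_compl_self _)
    haveI := EtDeg8.isClosedImmersion_ι U hA.1
    haveI := EtDeg8.isClosedImmersion_ι V hVc
    letI : U.toScheme.Over (Spec (CommRingCat.of k)) := ⟨U.ι ≫ f⟩
    letI : V.toScheme.Over (Spec (CommRingCat.of k)) := ⟨V.ι ≫ f⟩
    haveI : IsProper (U.toScheme ↘ Spec (CommRingCat.of k)) := inferInstanceAs (IsProper (U.ι ≫ f))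
    haveI : IsProper (V.toScheme ↘ Spec (CommRingCat.of k)) := inferInstanceAs (IsProper (V.ι ≫ f))
    haveI : SmoothOfRelativeDimension 2 (U.toScheme ↘ Spec (CommRingCat.of k)) :=
      inferInstanceAs (SmoothOfRelativeDimension (0 + 2) (U.ι ≫ f))
    haveI : SmoothOfRelativeDimension 2 (V.toScheme ↘ Spec (CommRingCat.of k)) :=
      inferInstanceAs (SmoothOfRelativeDimension (0 + 2) (V.ι ≫ f))
    haveI : QuasiSeparated f := inferInstanceAs (QuasiSeparated (X ↘ Spec (CommRingCat.of k)))
    have hUlt : ∃ x : X, x ∉ U := (Set.ne_univ_iff_exists_notMem A).1 hA1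
    have hVlt : ∃ x : X, x ∉ V := by
      obtain ⟨x, hx⟩ := Set.nonempty_iff_ne_empty.2 hA0
      exact ⟨x, fun h => h hx⟩
    have hext : ∀ (O : X.Opens) [QuasiSeparated (O.ι ≫ f)], ExtPow.IsExtPow 2 (Omega.sheaf (O.ι ≫ f))
        ((Scheme.Modules.pullback O.ι).obj W) := fun O _ =>
      S15540.result X _ O.toScheme _ f (O.ι ≫ f) O.ι (𝟙 _) (Category.comp_id _).symm 2 W hW
    have eU := ih _ (hn ▸ OmegaAmple24.card_maxPts_lt U hUlt hA.1) U.toScheme rfl _ (hext U)
      (PicLoc.isInvertible_pullback _ hWi) (VarietyLib.pullHom U.ι a)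
    have eV := ih _ (hn ▸ OmegaAmple24.card_maxPts_lt V hVlt hVc) V.toScheme rfl _ (hext V)
      (PicLoc.isInvertible_pullback _ hWi) (VarietyLib.pullHom V.ι a)
    have split : ∀ x : InvCl X, chiCl k (Coh.structureModule X) x =
        chiCl k (Coh.structureModule U.toScheme) (VarietyLib.pullHom U.ι x) +
          chiCl k (Coh.structureModule V.toScheme) (VarietyLib.pullHom V.ι x) := fun x => by
      obtain ⟨L, hL, rfl⟩ := InvCl.exists_rep x
      rw [VarietyLib.pullHom_mk, VarietyLib.pullHom_mk, chiCl_mk, chiCl_mk, chiCl_mk,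
        euler_congr k X (unitTensorIso L), euler_congr k _ (unitTensorIso _), euler_congr k _ (unitTensorIso _)]
      have hM := CurveRR24.isCoh_of_isInvertible k hL
      obtain ⟨h1, e1⟩ := EtDeg8.euler_piece k U rfl hM
      obtain ⟨h2, e2⟩ := EtDeg8.euler_piece k V rfl hM
      rw [EtDeg8.euler_clopen k U V hUV hcov hM h1 h2, e1, e2]
    rw [← VarietyLib.pullHom_mk U.ι hWi] at eU
    rw [← VarietyLib.pullHom_mk V.ι hWi] at eV
    simp only [B] at eU eV ⊢
    rw [split a, split (a * a), split (a * InvCl.mk W hWi), split (InvCl.mk W hWi), split 1]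
    simp only [map_mul, map_one]
    linarith

/-- **Riemann–Roch** on a smooth proper surface over any field, on classes. -/
theorem riemannRoch_cl {W : X.Modules} (hW : ExtPow.IsExtPow 2 (Omega.sheaf (X ↘ Spec (CommRingCat.of k))) W)
    (hWi : PicF.IsInvertible W) (a : InvCl X) :
    2 * chiCl k (Coh.structureModule X) a =
      B k a a - B k a (InvCl.mk W hWi) + 2 * chiCl k (Coh.structureModule X) 1 := by
  rcases isEmpty_or_nonempty X with h | h
  · have hz : ∀ x : InvCl X, chiCl k (Coh.structureModule X) x = 0 := fun x => by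
      obtain ⟨L, hL, rfl⟩ := InvCl.exists_rep x
      rw [chiCl_mk]
      exact euler_of_isZero k X (ModStalk.isZero_of_stalks fun y => isEmptyElim y)
    simp only [B, hz]
    ring
  let K := AlgebraicClosure k
  letI : (Curv2.bc k X K).Over (Spec (CommRingCat.of K)) := ⟨Curv2.bcSnd k X K⟩
  have sq := isPullback_bc k X K
  haveI : IsProper (Curv2.bc k X K ↘ Spec (CommRingCat.of K)) :=
    MorphismProperty.of_isPullback (P := @IsProper) sq inferInstance
  haveI : Smooth (Curv2.bc k X K ↘ Spec (CommRingCat.of K)) :=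
    MorphismProperty.of_isPullback (P := @Smooth) sq inferInstance
  haveI := isSeparated_of_proper (X := X) k
  have hW' := S15539.result X _ (Curv2.bc k X K) _ (X ↘ Spec (CommRingCat.of k))
    (Curv2.bc k X K ↘ Spec (CommRingCat.of K)) (Curv2.bcFst k X K) _ sq 2 W hW
  have hdim : topologicalKrullDim X = ((2 : ℕ) : WithBot ℕ∞) :=
    GenSmoothLib.topologicalKrullDim_eq_of_localDim (X ↘ Spec (CommRingCat.of k)) _
      fun z => Unram17Lib.localDim_of_smoothOfRelativeDimension k (X ↘ Spec (CommRingCat.of k)) 2 z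
  have hX : topologicalKrullDim ↥(Curv2.bc k X K) = ((2 : ℕ) : WithBot ℕ∞) :=
    (DimLib.topologicalKrullDim_bc (X ↘ Spec (CommRingCat.of k)) K).trans hdim
  haveI : SmoothOfRelativeDimension 2 (Curv2.bc k X K ↘ Spec (CommRingCat.of K)) :=
    haveI := smoothOfRelativeDimension_isStableUnderBaseChange 2
    MorphismProperty.of_isPullback (P := @SmoothOfRelativeDimension 2) sq inferInstance
  have hr := riemannRoch_cl_algClosed K _ (Curv2.bc k X K) rfl _ hW' (PicLoc.isInvertible_pullback _ hWi)
    (VarietyLib.pullHom (Curv2.bcFst k X K) a)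
  rw [← VarietyLib.pullHom_mk (Curv2.bcFst k X K) hWi] at hr
  simp only [B, ← map_mul, chiCl_bc k K] at hr ⊢
  rw [← map_one (VarietyLib.pullHom (Curv2.bcFst k X K)), chiCl_bc k K] at hr
  exact hr

/-- **Riemann–Roch** for an invertible module, over any field. -/
theorem riemannRoch {W : X.Modules} (hW : ExtPow.IsExtPow 2 (Omega.sheaf (X ↘ Spec (CommRingCat.of k))) W)
    (hWi : PicF.IsInvertible W) {L : X.Modules} (hL : PicF.IsInvertible L) :
    2 * Curv2.euler k X L = FGA.intNum k X 2 ![L, L] (Coh.structureModule X) -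
      FGA.intNum k X 2 ![L, W] (Coh.structureModule X) + 2 * Curv2.euler k X (Coh.structureModule X) := by
  rw [intNum_eq_B k (dim_le k) hL hL, intNum_eq_B k (dim_le k) hL hWi, euler_eq_chiCl k (dim_le k) hL,
    ← chiCl_one k (Coh.structureModule X)]
  exact riemannRoch_cl k hW hWi _

/-- **Adjunction** for a closed subscheme with invertible ideal, over any field. -/
theorem two_euler_quotMod {W : X.Modules} (hW : ExtPow.IsExtPow 2 (Omega.sheaf (X ↘ Spec (CommRingCat.of k))) W)
    (hWi : PicF.IsInvertible W) {D : X.IdealSheafData} (hI : PicF.IsInvertible (ClSub.idealMod D)) :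
    2 * Curv2.euler k X (ClSub.quotMod D) =
      FGA.intNum k X 2 ![ClSub.idealMod D, W] (Coh.structureModule X) -
        FGA.intNum k X 2 ![ClSub.idealMod D, ClSub.idealMod D] (Coh.structureModule X) := by
  haveI := isNoetherian_of_proper (X := X) k
  rw [intNum_eq_B k (dim_le k) hI hWi, intNum_eq_B k (dim_le k) hI hI]
  have h := riemannRoch_cl k hW hWi (InvCl.mk _ hI)
  have h' := congrFun (chiCl_additive k _ (shortExact_ideal D) (isCoh_idealMod' D) (isCoh_structureModule X)
    (isCoh_quotMod D)) 1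
  have e : chiCl k (ClSub.idealMod D) 1 = chiCl k (Coh.structureModule X) (InvCl.mk _ hI) := by
    conv_rhs => rw [← mul_one (InvCl.mk _ hI), chiCl_mul k (Coh.structureModule X) hI 1,
      chiCl_congr k (unitTensorIso (ClSub.idealMod D))]
  have h2 : chiCl k (Coh.structureModule X) 1 =
      chiCl k (ClSub.idealMod D) 1 + chiCl k (ClSub.quotMod D) 1 := h'
  rw [e, chiCl_one k (ClSub.quotMod D)] at h2
  linarith

end Groth.Agent.RRField14
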